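import Mathlib

/-! # Local rings of the integral closure in a localization, in dimension one -/

set_option autoImplicit false
set_option linter.all false

universe u

namespace GrothLib.CurveCompl10

theorem isField_of_idempotent {K : Type u} [CommRing K] [Nontrivial K] [_root_.IsReduced K] [IsArtinianRing K]
    (hid : ∀ e : K, IsIdempotentElem e → e = 0 ∨ e = 1) : IsField K := by
  refine ⟨exists_pair_ne K, mul_comm, fun {x} hx => ?_⟩
  obtain ⟨n, y, hy⟩ := IsArtinian.exists_pow_succ_smul_dvd x (1 : K)
  simp only [smul_eq_mul, mul_one] at hy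
  have hy' : x * x * y = x := by
    refine sub_eq_zero.1 (eq_zero_of_pow_eq_zero (n := n + 1) ?_)
    rw [show x * x * y - x = x * (x * y - 1) by ring, mul_pow, pow_succ x n, pow_succ (x * y - 1) n]
    calc x ^ n * x * ((x * y - 1) ^ n * (x * y - 1)) = (x ^ (n + 1) * y - x ^ n) * (x * (x * y - 1) ^ n) := by ring
      _ = 0 := by rw [hy, sub_self, zero_mul]
  rcases hid (x * y) (show _ * _ = _ by rw [← mul_assoc, mul_right_comm x y x, hy']) with h | h
  · exact absurd (by rw [← hy', mul_assoc, h, mul_zero]) hx
  · exact ⟨y, h⟩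

theorem isDVR_localization {A L : Type u} [CommRing A] [IsNoetherianRing A] [Ring.KrullDimLE 1 A] [CommRing L]
    [Algebra A L] (f : A) [IsLocalization.Away f L] [_root_.IsReduced L]
    (hfin : Module.Finite A (integralClosure A L))
    (hmax : ∀ P : Ideal A, P.IsPrime → f ∈ P → P.IsMaximal)
    (q : Ideal (integralClosure A L)) [q.IsPrime] (hq : algebraMap A (integralClosure A L) f ∈ q) :
    ∃ _ : IsDomain (Localization.AtPrime q), IsDiscreteValuationRing (Localization.AtPrime q) := by
  classical
  haveI := hfin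
  let B := integralClosure A L
  haveI : IsNoetherianRing B := IsNoetherianRing.of_finite A B
  haveI : IsNoetherianRing L := IsLocalization.isNoetherianRing (Submonoid.powers f) L inferInstance
  haveI : Algebra.IsIntegral A B := ⟨fun b => (isIntegral_algHom_iff B.val Subtype.val_injective).1 b.2⟩
  have hfu : IsUnit (algebraMap A L f) := IsLocalization.Away.algebraMap_isUnit f
  let S := Algebra.algebraMapSubmonoid L q.primeCompl
  let Bq := Localization.AtPrime q
  let K := Localization S
  letI : Algebra Bq K := localizationAlgebra q.primeCompl L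
  haveI : IsScalarTower B Bq K := IsScalarTower.of_algebraMap_eq' (IsLocalization.map_comp _).symm
  have hinj : Function.Injective (algebraMap Bq K) := by
    refine (injective_iff_map_eq_zero _).2 fun x hx => ?_
    obtain ⟨b, s, rfl⟩ := IsLocalization.exists_mk'_eq q.primeCompl x
    have h2 : algebraMap B K b = 0 := by
      have := congrArg (fun z => z * algebraMap Bq K (algebraMap B Bq s)) hx
      simp only [zero_mul] at this
      rw [← map_mul, IsLocalization.mk'_spec, ← IsScalarTower.algebraMap_apply] at this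
      exact this
    rw [IsScalarTower.algebraMap_apply B L K, IsLocalization.map_eq_zero_iff S K] at h2
    obtain ⟨⟨_, t, ht, rfl⟩, htb⟩ := h2
    exact (IsLocalization.mk'_eq_zero_iff _ _).2 ⟨⟨t, ht⟩, Subtype.val_injective (by simpa using htb)⟩
  haveI : Nontrivial K := hinj.nontrivial
  haveI : _root_.IsReduced K := isReduced_localizationPreserves S K inferInstance
  haveI : Ring.KrullDimLE 0 K := by
    refine Ring.KrullDimLE.mk₀ fun Q hQ => ?_
    haveI := hQ
    refine Ideal.isMaximal_def.2 ⟨hQ.ne_top, fun Q' hQQ' => ?_⟩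
    by_contra hne
    obtain ⟨R, hR, hQR⟩ := Ideal.exists_le_maximal Q' hne
    haveI := hR.isPrime
    have hlt : Q < R := hQQ'.trans_le hQR
    obtain ⟨hPp, hPd⟩ := (IsLocalization.isPrime_iff_isPrime_disjoint S K Q).1 hQ
    obtain ⟨hRp, hRd⟩ := (IsLocalization.isPrime_iff_isPrime_disjoint S K R).1 hR.isPrime
    let P₁ := Q.comap (algebraMap L K)
    let P₂ := R.comap (algebraMap L K)
    have hP : P₁ < P₂ := (IsLocalization.orderEmbedding S K).lt_iff_lt.2 hlt
    have hA : P₁.comap (algebraMap A L) < P₂.comap (algebraMap A L) :=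
      (IsLocalization.orderEmbedding (Submonoid.powers f) L).lt_iff_lt.2 hP
    haveI : (P₁.comap (algebraMap A L)).IsPrime := Ideal.IsPrime.comap _
    haveI : (P₂.comap (algebraMap A L)).IsPrime := Ideal.IsPrime.comap _
    have hmaxA : (P₂.comap (algebraMap A L)).IsMaximal := by
      rcases (Ring.krullDimLE_one_iff.1 (inferInstance : Ring.KrullDimLE 1 A)) (P₂.comap (algebraMap A L)) inferInstance with h | h
      · exact absurd (h.2 ⟨inferInstance, bot_le⟩ hA.le) hA.not_ge
      · exact h
    have hle : P₂.comap (algebraMap A L) ≤ q.comap (algebraMap A B) := by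
      intro a ha
      by_contra hna
      exact Set.disjoint_left.1 hRd ⟨algebraMap A B a, hna, rfl⟩ (show algebraMap B L (algebraMap A B a) ∈ P₂ from ha)
    have hfP : f ∈ P₂.comap (algebraMap A L) :=
      (hmaxA.eq_of_le (Ideal.IsPrime.ne_top (Ideal.IsPrime.comap _)) hle).ge hq
    exact hRp.ne_top (Ideal.eq_top_of_isUnit_mem _ hfP hfu)
  haveI : IsNoetherianRing K := IsLocalization.isNoetherianRing S K inferInstance
  haveI : IsArtinianRing K := isArtinianRing_iff_isNoetherianRing_krullDimLE_zero.2 ⟨inferInstance, inferInstance⟩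
  -- integral closedness
  have hclosed : ∀ z : K, IsIntegral Bq z → ∃ b : Bq, algebraMap Bq K b = z := by
    intro z hz
    obtain ⟨⟨m, hm⟩, hmz⟩ := IsIntegral.exists_multiple_integral_of_isLocalization q.primeCompl z hz
    obtain ⟨⟨l, ⟨_, s, hs, rfl⟩⟩, hls⟩ := IsLocalization.surj S ((⟨m, hm⟩ : q.primeCompl) • z)
    have hl : IsIntegral B (algebraMap L K l) := by
      have h2 : IsIntegral B (algebraMap B K s) := isIntegral_algebraMap
      rw [← hls, ← IsScalarTower.algebraMap_apply B L K]
      exact hmz.mul h2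
    obtain ⟨g, hg, hgl⟩ := hl
    rw [IsScalarTower.algebraMap_eq B L K, ← Polynomial.hom_eval₂, IsLocalization.map_eq_zero_iff S K] at hgl
    obtain ⟨⟨_, t, ht, rfl⟩, htg⟩ := hgl
    have hint : IsIntegral B (algebraMap B L t * l) := by
      refine ⟨g.scaleRoots t * Polynomial.X, ((Polynomial.monic_scaleRoots_iff t).2 hg).mul Polynomial.monic_X, ?_⟩
      rw [Polynomial.eval₂_mul, Polynomial.eval₂_X, Polynomial.scaleRoots_eval₂_mul]
      rcases Nat.eq_zero_or_pos g.natDegree with h0 | hpos
      · rw [h0, pow_zero, one_mul]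
        have h1 := hg.natDegree_eq_zero.1 h0
        rw [h1, Polynomial.eval₂_one, mul_one] at htg
        rw [h1, Polynomial.eval₂_one, one_mul]
        exact (congrArg (· * l) htg).trans (zero_mul _)
      · obtain ⟨n, hn⟩ := Nat.exists_eq_succ_of_ne_zero hpos.ne'
        rw [hn, pow_succ, mul_assoc _ (algebraMap B L t), htg, mul_zero, zero_mul]
    let b₀ : B := ⟨algebraMap B L t * l, isIntegral_trans _ hint⟩
    let w : q.primeCompl := ⟨m * s * t, mul_mem (mul_mem hm hs) ht⟩
    refine ⟨IsLocalization.mk' Bq b₀ w, ?_⟩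
    have hu : IsUnit (algebraMap B K (w : B)) := by
      rw [IsScalarTower.algebraMap_apply B L K]
      exact IsLocalization.map_units K (⟨algebraMap B L w, (w : B), w.2, rfl⟩ : S)
    refine hu.mul_left_injective ?_
    show algebraMap Bq K _ * algebraMap B K (w : B) = z * algebraMap B K (w : B)
    rw [IsScalarTower.algebraMap_apply B Bq K, ← map_mul, IsLocalization.mk'_spec, ← IsScalarTower.algebraMap_apply]
    have h3 : z * algebraMap B K m * algebraMap B K s = algebraMap L K l := by
      rw [mul_comm z, ← Algebra.smul_def, IsScalarTower.algebraMap_apply B L K s]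
      exact hls
    rw [IsScalarTower.algebraMap_apply B L K b₀]
    rw [← IsScalarTower.algebraMap_apply B Bq K]
    show algebraMap L K (algebraMap B L t * l) = z * algebraMap B K (m * s * t)
    rw [map_mul, map_mul, map_mul, ← h3, ← IsScalarTower.algebraMap_apply B L K]
    ring
  have hK : IsField K := isField_of_idempotent fun e he => by
    obtain ⟨b, rfl⟩ := hclosed e ⟨Polynomial.X ^ 2 - Polynomial.X,
      Polynomial.monic_X_pow_sub (Polynomial.degree_X_le.trans_lt (by norm_num)), by simp [sq, he.eq]⟩
    have hb : b * (1 - b) = 0 := hinj (by rw [map_mul, map_sub, map_one, map_zero, mul_sub, mul_one, he.eq, sub_self])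
    rcases IsLocalRing.isUnit_or_isUnit_one_sub_self b with h | h
    · right; rw [← (sub_eq_zero.1 (h.mul_right_eq_zero.1 hb)), map_one]
    · left; rw [h.mul_left_eq_zero.1 hb, map_zero]
  letI : Field K := hK.toField
  haveI : IsDomain Bq := hinj.isDomain (algebraMap Bq K)
  haveI : FaithfulSMul Bq K := (faithfulSMul_iff_algebraMap_injective Bq K).2 hinj
  have hquot : ∀ z : K, ∃ (a t : B) (n : ℕ), t ∉ q ∧
      z * algebraMap B K (algebraMap A B f ^ n * t) = algebraMap B K a := by
    intro z
    obtain ⟨⟨l, ⟨_, t, ht, rfl⟩⟩, hls⟩ := IsLocalization.surj S z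
    obtain ⟨⟨a, ⟨_, n, rfl⟩⟩, hla⟩ := IsLocalization.surj (Submonoid.powers f) l
    refine ⟨algebraMap A B a, t, n, ht, ?_⟩
    rw [map_mul, map_pow, IsScalarTower.algebraMap_apply B L K, IsScalarTower.algebraMap_apply B L K t,
      IsScalarTower.algebraMap_apply B L K (algebraMap A B a), ← IsScalarTower.algebraMap_apply A B L,
      ← IsScalarTower.algebraMap_apply A B L, ← hla, map_mul (algebraMap L K), ← hls, map_pow, map_pow]
    ring
  haveI : IsFractionRing Bq K := by
    refine IsFractionRing.of_field Bq K fun z => ?_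
    obtain ⟨a, t, n, ht, h⟩ := hquot z
    refine ⟨algebraMap B Bq a, algebraMap B Bq (algebraMap A B f ^ n * t), ?_⟩
    rw [← IsScalarTower.algebraMap_apply, ← IsScalarTower.algebraMap_apply]
    refine eq_div_iff ?_ |>.2 h
    refine IsUnit.ne_zero ?_
    rw [map_mul, map_pow, IsScalarTower.algebraMap_apply B L K, IsScalarTower.algebraMap_apply B L K t]
    exact (((hfu.map (algebraMap L K))).pow n |>.mul
      (IsLocalization.map_units K (⟨algebraMap B L t, t, ht, rfl⟩ : S)))
  haveI : IsIntegrallyClosed Bq := (isIntegrallyClosed_iff K).2 fun {z} hz => hclosed z hz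
  haveI : IsNoetherianRing Bq := IsLocalization.isNoetherianRing q.primeCompl Bq inferInstance
  haveI : Ring.DimensionLEOne Bq := by
    refine ⟨fun {P} hP0 hPp => ?_⟩
    haveI := hPp
    obtain ⟨x, hxP, hx0⟩ := P.ne_bot_iff.1 hP0
    have hne : algebraMap Bq K x ≠ 0 := fun h => hx0 (hinj (h.trans (map_zero _).symm))
    obtain ⟨a, t, n, ht, h⟩ := hquot (algebraMap Bq K x)⁻¹
    have h2 : x * algebraMap B Bq a = algebraMap B Bq (algebraMap A B f ^ n * t) := hinj (by
      rw [map_mul, ← IsScalarTower.algebraMap_apply, ← IsScalarTower.algebraMap_apply, ← h, ← mul_assoc,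
        mul_inv_cancel₀ hne, one_mul])
    have hfP : algebraMap B Bq (algebraMap A B f) ∈ P := by
      have h3 := h2 ▸ P.mul_mem_right (algebraMap B Bq a) hxP
      rw [map_mul, map_pow] at h3
      exact hPp.mem_of_pow_mem n ((hPp.mem_or_mem h3).resolve_right fun h4 =>
        hPp.ne_top (Ideal.eq_top_of_isUnit_mem _ h4 (IsLocalization.map_units Bq (⟨t, ht⟩ : q.primeCompl))))
    let P' := P.comap (algebraMap B Bq)
    haveI : P'.IsPrime := Ideal.IsPrime.comap _
    have hP'q : P' ≤ q := fun b hb => by
      by_contra hbq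
      exact hPp.ne_top (Ideal.eq_top_of_isUnit_mem _ hb (IsLocalization.map_units Bq (⟨b, hbq⟩ : q.primeCompl)))
    haveI : P'.IsMaximal := Ideal.isMaximal_of_isIntegral_of_isMaximal_comap P' (hmax _ (Ideal.IsPrime.comap _) hfP)
    have heq : P' = q := Ideal.IsMaximal.eq_of_le inferInstance (Ideal.IsPrime.ne_top inferInstance) hP'q
    have : P = IsLocalRing.maximalIdeal Bq := by
      rw [← IsLocalization.map_comap q.primeCompl Bq P, show P.under B = q from heq,
        Localization.AtPrime.map_eq_maximalIdeal]
    exact this ▸ inferInstance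
  haveI : IsDedekindDomain Bq := (isDedekindDomain_iff Bq K).2 ⟨inferInstance, inferInstance, inferInstance,
    fun hz => hclosed _ hz⟩
  refine ⟨inferInstance, ((IsDiscreteValuationRing.TFAE Bq ?_).out 2 0).1 ‹IsDedekindDomain Bq›⟩
  intro hF
  letI := hF.toField
  have hfu' : IsUnit (algebraMap B Bq (algebraMap A B f)) := isUnit_iff_ne_zero.2 fun h => by
    have := congrArg (algebraMap Bq K) h
    rw [← IsScalarTower.algebraMap_apply, IsScalarTower.algebraMap_apply B L K, ← IsScalarTower.algebraMap_apply A B L,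
      map_zero] at this
    exact (hfu.map (algebraMap L K)).ne_zero this
  exact ((IsLocalization.AtPrime.isUnit_to_map_iff Bq q _).1 hfu') hq

end GrothLib.CurveCompl10
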