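import Groth.Agent.Lib.CurveModel.Completion
import Groth.Agent.Lib.NormNagata9.Basic
import Groth.Agent.Lib.CurveCompl10.Algebra
import Groth.Agent.S0566
import Groth.Agent.Lib.CharRing.Nagata
import Mathlib.AlgebraicGeometry.ZariskisMainTheorem

/-! # Projective completion of a reduced scheme of dimension at most one with regular boundary -/

set_option autoImplicit false
set_option linter.all false
set_option backward.isDefEq.respectTransparency false
set_option maxHeartbeats 1000000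

universe u

open CategoryTheory CategoryTheory.Limits AlgebraicGeometry TopologicalSpace Opposite
open GrothLib.CurveModel (exists_genericPoints_specializes eq_of_specializes_genericPoint)

noncomputable section

namespace GrothLib.CurveCompl10

theorem mem_basicOpen_iff {Y : Scheme.{u}} {U : Y.Opens} (hU : IsAffineOpen U) (x : U) (f : Γ(Y, U)) :
    x.1 ∈ Y.basicOpen f ↔ f ∉ (hU.primeIdealOf x).asIdeal := by
  have h := hU.fromSpec_preimage_basicOpen f
  have h2 : hU.primeIdealOf x ∈ hU.fromSpec ⁻¹ᵁ Y.basicOpen f ↔ x.1 ∈ Y.basicOpen f := by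
    show hU.fromSpec (hU.primeIdealOf x) ∈ Y.basicOpen f ↔ _
    rw [hU.fromSpec_primeIdealOf]
  rw [← h2, h]
  rfl

theorem exists_chart {Y : Scheme.{u}} [IsNoetherian Y] (hd : topologicalKrullDim Y ≤ 1) {R : Y.Opens}
    (hR : genericPoints (Y : Type u) ⊆ R) {y : Y} (hy : y ∉ R) :
    ∃ (U : Y.Opens) (hU : IsAffineOpen U) (hyU : y ∈ U) (f : Γ(Y, U)), y ∉ Y.basicOpen f ∧
      Y.basicOpen f = U ⊓ R ∧ ∀ z : U, z.1 ∉ Y.basicOpen f → z.1 = y := by
  classical
  obtain ⟨U₁, hU₁, hy₁, -⟩ := exists_isAffineOpen_mem_and_subset (x := y) (U := (⊤ : Y.Opens)) trivial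
  have hcl : ∀ z : Y, z ∉ genericPoints (Y : Type u) → IsClosed ({z} : Set Y) := fun z hz =>
    Euler.isClosed_singleton_of_notMem_genericPoints hd hz
  have hyc := hcl y fun h => hy (hR h)
  let m := (hU₁.primeIdealOf ⟨y, hy₁⟩).asIdeal
  haveI : m.IsMaximal := hU₁.primeIdealOf_isMaximal_of_isClosed ⟨y, hy₁⟩ hyc
  haveI : Finite (genericPoints (Y : Type u)) :=
    (genericPoints.finite NoetherianSpace.finite_irreducibleComponents).to_subtype
  let G := {z : genericPoints (Y : Type u) // z.1 ∈ U₁}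
  haveI := Fintype.ofFinite G
  obtain ⟨f₁, hf₁m, hf₁⟩ : ∃ f ∈ m, ∀ z : G, f ∉ (hU₁.primeIdealOf ⟨z.1.1, z.2⟩).asIdeal := by
    by_contra! h
    have hsub : (m : Set Γ(Y, U₁)) ⊆ ⋃ z ∈ (Finset.univ : Finset G), ((hU₁.primeIdealOf ⟨z.1.1, z.2⟩).asIdeal : Set Γ(Y, U₁)) := fun a ha => by
      obtain ⟨z, hz⟩ := h a ha
      exact Set.mem_iUnion₂.2 ⟨z, Finset.mem_univ _, hz⟩
    by_cases hG : Nonempty G
    · obtain ⟨z₀⟩ := hG
      obtain ⟨z, -, hz⟩ := (Ideal.subset_union_prime z₀ z₀ fun i _ _ _ => (hU₁.primeIdealOf ⟨i.1.1, i.2⟩).isPrime).1 hsub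
      have he : hU₁.primeIdealOf ⟨y, hy₁⟩ = hU₁.primeIdealOf ⟨z.1.1, z.2⟩ :=
        PrimeSpectrum.ext ((inferInstance : m.IsMaximal).eq_of_le (hU₁.primeIdealOf ⟨z.1.1, z.2⟩).isPrime.ne_top hz)
      have : y = z.1.1 := by
        have := congrArg (fun p => hU₁.fromSpec p) he
        simpa only [hU₁.fromSpec_primeIdealOf] using this
      exact hy (this ▸ hR z.1.2)
    · obtain ⟨z, -⟩ := h 0 m.zero_mem
      exact hG ⟨z⟩
  have hyf : y ∉ Y.basicOpen f₁ := fun h => (mem_basicOpen_iff hU₁ ⟨y, hy₁⟩ f₁).1 h hf₁m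
  haveI : IsNoetherian (U₁ : Scheme.{u}) :=
    haveI : CompactSpace U₁ := isCompact_iff_compactSpace.1 hU₁.isCompact
    haveI : IsLocallyNoetherian (U₁ : Scheme.{u}) := isLocallyNoetherian_of_isOpenImmersion U₁.ι
    ⟨⟩
  let Z₁ : Set (U₁ : Scheme.{u}) := U₁.ι ⁻¹' (Y.basicOpen f₁ : Set Y)ᶜ
  have hZ₁ : Z₁.Finite := Euler.finite_of_closed_points
    ((Y.basicOpen f₁).isOpen.isClosed_compl.preimage U₁.ι.continuous) fun z hz => by
      have hzn : U₁.ι z ∉ genericPoints (Y : Type u) := fun hg =>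
        hz ((mem_basicOpen_iff hU₁ ⟨U₁.ι z, z.2⟩ f₁).2 (hf₁ ⟨⟨_, hg⟩, z.2⟩))
      have := (hcl _ hzn).preimage U₁.ι.continuous
      rwa [← Set.image_singleton, Set.preimage_image_eq _ U₁.ι.isOpenEmbedding.injective] at this
  have hF : ((R : Set Y)ᶜ).Finite := Euler.finite_of_closed_points R.isOpen.isClosed_compl fun z hz =>
    hcl z fun h => hz (hR h)
  let T : Set Y := (U₁.ι '' Z₁ ∪ (R : Set Y)ᶜ) \ {y}
  have hTcl : ∀ z ∈ T, IsClosed ({z} : Set Y) := by
    rintro z ⟨⟨z', hz', rfl⟩ | hz, -⟩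
    · exact hcl _ fun hg => hz' ((mem_basicOpen_iff hU₁ ⟨U₁.ι z', z'.2⟩ f₁).2 (hf₁ ⟨⟨_, hg⟩, z'.2⟩))
    · exact hcl _ fun hg => hz (hR hg)
  have hTc : IsClosed T := by
    have hfin : T.Finite := ((hZ₁.image _).union hF).subset Set.diff_subset
    rw [← Set.biUnion_of_singleton T]
    exact hfin.isClosed_biUnion hTcl
  obtain ⟨h, hle, hyh⟩ := hU₁.exists_basicOpen_le (V := (⟨Tᶜ, hTc.isOpen_compl⟩ : Y.Opens))
    (⟨y, fun ht => ht.2 rfl⟩ : (⟨Tᶜ, hTc.isOpen_compl⟩ : Y.Opens)) hy₁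
  let U := Y.basicOpen h
  have hUU : U ≤ U₁ := Y.basicOpen_le h
  have hone : ∀ z : U, z.1 ∉ Y.basicOpen f₁ ∨ z.1 ∉ R → z.1 = y := by
    intro z hz
    by_contra hne
    refine hle z.2 ⟨?_, hne⟩
    rcases hz with hz | hz
    · exact Or.inl ⟨⟨z.1, hUU z.2⟩, hz, rfl⟩
    · exact Or.inr hz
  refine ⟨U, hU₁.basicOpen h, hyh, Y.presheaf.map (homOfLE hUU).op f₁, ?_, ?_, fun z hz => ?_⟩
  · rw [Scheme.basicOpen_res]; exact fun h => hyf h.2
  · rw [Scheme.basicOpen_res]
    refine le_antisymm (fun z hz => ⟨hz.1, ?_⟩) fun z hz => ⟨hz.1, ?_⟩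
    · by_contra hn; exact hy (hone ⟨z, hz.1⟩ (Or.inl hn) ▸ hz.2)
    · by_contra hn; exact hyf (hone ⟨z, hz.1⟩ (Or.inr hn) ▸ hz.2)
  · rw [Scheme.basicOpen_res] at hz
    exact hone z (Or.inl fun h' => hz ⟨z.2, h'⟩)

theorem krullDimLE_one {Y : Scheme.{u}} (hd : topologicalKrullDim Y ≤ 1) {U : Y.Opens} (hU : IsAffineOpen U) :
    Ring.KrullDimLE 1 Γ(Y, U) := by
  refine Ring.krullDimLE_iff.2 ?_
  rw [← PrimeSpectrum.topologicalKrullDim_eq_ringKrullDim]
  exact hU.fromSpec.isEmbedding.isInducing.topologicalKrullDim_le.trans hd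

theorem isDVR_normalization_stalk {X Y : Scheme.{u}} [IsNoetherian Y] [IsReduced X] (j : X ⟶ Y) [IsOpenImmersion j]
    [QuasiCompact j] [IsFinite j.fromNormalization] (hd : topologicalKrullDim Y ≤ 1)
    (hgen : genericPoints (Y : Type u) ⊆ Set.range j) (y : j.normalization)
    (hy : j.fromNormalization y ∉ Set.range j) :
    ∃ _ : IsDomain (j.normalization.presheaf.stalk y), IsDiscreteValuationRing (j.normalization.presheaf.stalk y) := by
  obtain ⟨U, hU, hyU, f, hyf, hD, hone⟩ := exists_chart hd (R := j.opensRange) hgen hy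
  let ν := j.fromNormalization
  letI := (j.app U).hom.toAlgebra
  have hle : j ⁻¹ᵁ U ≤ j ⁻¹ᵁ Y.basicOpen f := by
    intro x hx; show j x ∈ Y.basicOpen f; rw [hD]; exact ⟨hx, x, rfl⟩
  haveI hloc : IsLocalization.Away f Γ(X, j ⁻¹ᵁ U) := by
    haveI := hU.isLocalization_basicOpen f
    haveI : IsIso (j.app (Y.basicOpen f)) := j.isIso_app _ (by rw [hD]; exact inf_le_right)
    let ψ := j.app (Y.basicOpen f) ≫ X.presheaf.map (homOfLE hle).op
    haveI : IsIso (X.presheaf.map (homOfLE hle).op) := by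
      have he : j ⁻¹ᵁ U = j ⁻¹ᵁ Y.basicOpen f := le_antisymm hle fun x hx => Y.basicOpen_le f hx
      rw [show homOfLE hle = eqToHom he from rfl]
      infer_instance
    haveI : IsIso ψ := inferInstance
    refine IsLocalization.isLocalization_of_algEquiv (Submonoid.powers f)
      (AlgEquiv.ofRingEquiv (f := (asIso ψ).commRingCatIsoToRingEquiv) fun a => ?_ :
        Γ(Y, Y.basicOpen f) ≃ₐ[Γ(Y, U)] Γ(X, j ⁻¹ᵁ U))
    show ψ.hom (Y.presheaf.map (homOfLE (Y.basicOpen_le f)).op a) = j.app U a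
    simp only [ψ, ← CommRingCat.comp_apply]
    rw [Scheme.Hom.naturality_assoc, ← Functor.map_comp,
      show ((Opens.map j.base).map (homOfLE (Y.basicOpen_le f)).op.unop).op ≫ (homOfLE hle).op = 𝟙 _ from Subsingleton.elim _ _,
      CategoryTheory.Functor.map_id, Category.comp_id]
  haveI : IsNoetherianRing Γ(Y, U) := IsLocallyNoetherian.component_noetherian ⟨U, hU⟩
  haveI := krullDimLE_one hd hU
  let e := (j.normalizationObjIso hU).commRingCatIsoToRingEquiv
  have hV : IsAffineOpen (ν ⁻¹ᵁ U) := hU.preimage ν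
  have heq : ∀ a, e (ν.app U a) = algebraMap Γ(Y, U) (integralClosure Γ(Y, U) Γ(X, j ⁻¹ᵁ U)) a := by
    intro a
    show (j.normalizationObjIso hU).hom (ν.app U a) = _
    rw [show ν.app U = _ from j.fromNormalization_app hU]
    exact congr($((j.normalizationObjIso hU).inv_hom_id) (algebraMap Γ(Y, U) _ a))
  have hfin : Module.Finite Γ(Y, U) (integralClosure Γ(Y, U) Γ(X, j ⁻¹ᵁ U)) := by
    have h1 := IsFinite.finite_app ν U hU
    have h2 : (algebraMap Γ(Y, U) (integralClosure Γ(Y, U) Γ(X, j ⁻¹ᵁ U))) = e.toRingHom.comp (ν.app U).hom :=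
      RingHom.ext fun a => (heq a).symm
    exact RingHom.finite_algebraMap.1 (h2 ▸ (RingHom.Finite.of_surjective _ e.surjective).comp h1)
  let p := (hV.primeIdealOf ⟨y, hyU⟩).asIdeal
  let q := p.comap e.symm.toRingHom
  haveI : q.IsPrime := Ideal.IsPrime.comap _
  have hq : algebraMap Γ(Y, U) _ f ∈ q := by
    show e.symm _ ∈ p
    rw [← heq, e.symm_apply_apply]
    by_contra h
    refine hyf ?_
    have h2 := (mem_basicOpen_iff hV ⟨y, hyU⟩ (ν.app U f)).2 h
    rw [← Scheme.preimage_basicOpen] at h2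
    exact h2
  have hmax : ∀ P : Ideal Γ(Y, U), P.IsPrime → f ∈ P → P.IsMaximal := by
    intro P hP hfP
    let w : PrimeSpectrum Γ(Y, U) := ⟨P, hP⟩
    have hw : hU.fromSpec w ∈ U := hU.range_fromSpec.le ⟨w, rfl⟩
    have hpw : hU.primeIdealOf ⟨_, hw⟩ = w := hU.fromSpec.isOpenEmbedding.injective (hU.fromSpec_primeIdealOf _)
    have hwy : hU.fromSpec w = j.fromNormalization y :=
      hone ⟨_, hw⟩ fun h => (mem_basicOpen_iff hU ⟨_, hw⟩ f).1 h (by rw [hpw]; exact hfP)
    have := hU.primeIdealOf_isMaximal_of_isClosed ⟨_, hw⟩ (by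
      show IsClosed ({hU.fromSpec w} : Set Y)
      rw [hwy]; exact Euler.isClosed_singleton_of_notMem_genericPoints hd fun h => hy (hgen h))
    rwa [hpw] at this
  haveI : _root_.IsReduced Γ(X, j ⁻¹ᵁ U) := inferInstance
  obtain ⟨hdom, hdvr⟩ := isDVR_localization f hfin hmax q hq
  letI := TopCat.Presheaf.algebra_section_stalk j.normalization.presheaf (⟨y, hyU⟩ : (ν ⁻¹ᵁ U : j.normalization.Opens))
  haveI := hV.isLocalization_stalk ⟨y, hyU⟩
  let E : Localization.AtPrime q ≃+* j.normalization.presheaf.stalk y :=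
    IsLocalization.ringEquivOfRingEquiv (M := q.primeCompl) (T := p.primeCompl) (Localization.AtPrime q)
      (j.normalization.presheaf.stalk y) e.symm (by
        ext z
        constructor
        · rintro ⟨b, hb, rfl⟩; exact hb
        · intro hz; exact ⟨e z, show e.symm (e z) ∉ p by rwa [e.symm_apply_apply], e.symm_apply_apply z⟩)
  haveI : IsDomain (j.normalization.presheaf.stalk y) := E.symm.toMulEquiv.isDomain (Localization.AtPrime q)
  exact ⟨inferInstance, IsDiscreteValuationRing.RingEquivClass.isDiscreteValuationRing E⟩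

theorem exists_completion_reduced (k : Type u) [Field k] {X : Scheme.{u}} [X.Over (Spec (CommRingCat.of k))]
    [IsReduced X] [IsSeparated (X ↘ (Spec (CommRingCat.of k)))]
    [LocallyOfFiniteType (X ↘ (Spec (CommRingCat.of k)))] [QuasiCompact (X ↘ (Spec (CommRingCat.of k)))]
    (hdim : topologicalKrullDim X ≤ 1) :
    ∃ (d : ℕ) (Y : Scheme.{u}) (c : Y ⟶ CohB1.ProjSpace d k) (j : X ⟶ Y), IsClosedImmersion c ∧ IsOpenImmersion j ∧
      j ≫ c ≫ CohB1.ProjSpace.toSpec d k = X ↘ (Spec (CommRingCat.of k)) ∧ Dense (Set.range j.base) ∧ IsSchemeTheoreticallyDominant j ∧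
      (Set.range j.base)ᶜ.Finite ∧ ∀ y ∈ (Set.range j.base)ᶜ, IsClosed ({y} : Set Y) ∧
        ∃ _ : IsDomain (Y.presheaf.stalk y), IsDiscreteValuationRing (Y.presheaf.stalk y) := by
  haveI := CurveModel.isNoetherian_of_finiteType (X := X) k
  obtain ⟨d₀, Y₀, c₀, j₀, hc, hj, hjc, hdense, hs, hY₀, hB, hd₀⟩ := CurveModel.exists_completion k hdim
  haveI := hc; haveI := hj; haveI := hY₀; haveI := hs
  haveI : QuasiCompact j₀ := inferInstance
  haveI : IsReduced Y₀ := IsSchemeTheoreticallyDominant.isReduced j₀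
  haveI := Chow.isProper_toSpec d₀ k
  let g := c₀ ≫ CohB1.ProjSpace.toSpec d₀ k
  haveI : IsProper g := inferInstance
  have hgen : genericPoints (Y₀ : Type u) ⊆ Set.range j₀ := fun η hη => by
    by_contra h; exact hB η h hη
  have hN : ∀ U : Y₀.affineOpens, CAlg.IsNagata Γ(Y₀, U) := by
    intro U
    let φ : k →+* Γ(Y₀, U) := (g.appLE ⊤ U le_top).hom.comp (Scheme.ΓSpecIso (CommRingCat.of k)).inv.hom
    letI := φ.toAlgebra
    haveI : Algebra.FiniteType k Γ(Y₀, U) :=
      (LocallyOfFiniteType.finiteType_appLE g (isAffineOpen_top _) U.2 le_top).comp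
        (RingHom.FiniteType.of_surjective _ (ConcreteCategory.bijective_of_isIso (Scheme.ΓSpecIso (CommRingCat.of k)).inv).2)
    exact Groth.Agent.S0566.result k (CharRing.isNagata_field (K := k)) _
  haveI hνf : IsFinite j₀.fromNormalization := NormNagata9.isFinite_fromNormalization_of_finiteType j₀ hN
  let Y := j₀.normalization
  let ν := j₀.fromNormalization
  let j := j₀.toNormalization
  haveI : IsOpenImmersion j := inferInstance
  haveI : IsSchemeTheoreticallyDominant j := ⟨j₀.ker_toNormalization⟩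
  letI : Y.Over (Spec (CommRingCat.of k)) := ⟨ν ≫ g⟩
  haveI hYp : IsProper (Y ↘ Spec (CommRingCat.of k)) := (inferInstance : IsProper (ν ≫ g))
  haveI : IsNoetherian Y := CurveModel.isNoetherian_of_finiteType (X := Y) k
  -- the range is the preimage of the old range
  have hrange : ∀ z : Y, ν z ∈ Set.range j₀ → z ∈ Set.range j := by
    intro z hz
    let U := j₀.opensRange
    have hm : Set.range j ⊆ Set.range (ν ⁻¹ᵁ U).ι := by
      rintro _ ⟨x, rfl⟩
      rw [Scheme.Opens.range_ι]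
      show ν (j x) ∈ U
      rw [← Scheme.Hom.comp_apply, j₀.toNormalization_fromNormalization]
      exact ⟨x, rfl⟩
    let m := IsOpenImmersion.lift (ν ⁻¹ᵁ U).ι j hm
    have hmj : m ≫ (ν ⁻¹ᵁ U).ι = j := IsOpenImmersion.lift_fac _ _ _
    have hmi : m ≫ (ν ∣_ U) = j₀.isoOpensRange.hom := by
      rw [← cancel_mono U.ι, Category.assoc, morphismRestrict_ι, ← Category.assoc, hmj]
      simp [j, ν, U]
    haveI : IsClosedImmersion m := by
      haveI : IsClosedImmersion (m ≫ (ν ∣_ U)) := by rw [hmi]; infer_instance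
      haveI : IsSeparated (ν ∣_ U) := inferInstance
      exact IsClosedImmersion.of_comp m (ν ∣_ U)
    have hd : DenseRange m := by
      intro w
      have h1 : (ν ⁻¹ᵁ U).ι w ∈ closure ((ν ⁻¹ᵁ U).ι '' Set.range m) := by
        rw [← Set.range_comp]
        have : (⇑(ν ⁻¹ᵁ U).ι ∘ ⇑m) = ⇑j := by funext t; rw [Function.comp_apply, ← Scheme.Hom.comp_apply, hmj]
        rw [this]
        exact j.denseRange _
      rw [(ν ⁻¹ᵁ U).ι.isOpenEmbedding.isInducing.closure_eq_preimage_closure_image]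
      exact h1
    have hsurj : Set.range m = Set.univ := by
      rw [← m.isClosedEmbedding.isClosed_range.closure_eq]; exact hd.closure_eq
    obtain ⟨x, hx⟩ := hsurj.ge (Set.mem_univ (⟨z, hz⟩ : (ν ⁻¹ᵁ U)))
    exact ⟨x, by rw [← hmj, Scheme.Hom.comp_apply, hx]; rfl⟩
  have hrange' : ∀ z : Y, z ∉ Set.range j → ν z ∉ Set.range j₀ := fun z hz h => hz (hrange z h)
  -- fibres are discrete
  have hdisc : ∀ a b : Y, a ⤳ b → ν a = ν b → a = b := by
    intro a b hab he
    have hfin : (ν ⁻¹' {ν a}).Finite := ν.finite_preimage_singleton _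
    haveI : DiscreteTopology (ν ⁻¹' {ν a}) := (ν.isDiscrete_preimage_singleton _).to_subtype
    have : (⟨a, rfl⟩ : ν ⁻¹' {ν a}) ⤳ ⟨b, he.symm⟩ := (subtype_specializes_iff _ _).2 hab
    exact congrArg Subtype.val this.eq
  have hcl₀ : ∀ z : Y₀, z ∉ genericPoints (Y₀ : Type u) → IsClosed ({z} : Set Y₀) := fun z hz =>
    Euler.isClosed_singleton_of_notMem_genericPoints hd₀ hz
  have hup : ∀ y : Y, ν y ∉ genericPoints (Y₀ : Type u) → IsClosed ({y} : Set Y) := by
    intro y hy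
    refine isClosed_of_closure_subset fun z hz => ?_
    have hyz : y ⤳ z := specializes_iff_mem_closure.2 hz
    exact (hdisc y z hyz (Set.mem_singleton_iff.1 ((hyz.map ν.continuous).mem_closed (hcl₀ _ hy) rfl)).symm).symm
  have hdY : topologicalKrullDim Y ≤ 1 := by
    refine CurveModel.dim_le_one_of_isClosed fun y hy => hup y fun hg => ?_
    obtain ⟨η, hη, hηy⟩ := exists_genericPoints_specializes (Y := (Y : Type u)) y
    exact hy (hdisc η y hηy (eq_of_specializes_genericPoint hg (hηy.map ν.continuous)) ▸ hη)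
  obtain ⟨n, i, hi, hiq⟩ := CurveModel.exists_immersion_projSpace k hdY
  haveI := hi
  haveI := Chow.isProper_toSpec n k
  haveI : IsProper i := by
    haveI : IsProper (i ≫ CohB1.ProjSpace.toSpec n k) := by rw [hiq]; exact hYp
    exact IsProper.of_comp i (CohB1.ProjSpace.toSpec n k)
  haveI : IsClosedImmersion i := IsClosedImmersion.of_isPreimmersion i i.isClosedMap.isClosed_range
  refine ⟨n, Y, i, j, inferInstance, inferInstance, ?_, j.denseRange, inferInstance, ?_, fun y hy => ⟨?_, ?_⟩⟩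
  · rw [hiq]
    show j ≫ ν ≫ g = _
    rw [← Category.assoc, j₀.toNormalization_fromNormalization]
    exact hjc
  · exact Euler.finite_of_closed_points j.isOpenEmbedding.isOpen_range.isClosed_compl fun y hy =>
      hup y fun hg => hrange' y hy (hgen hg)
  · exact hup y fun hg => hrange' y hy (hgen hg)
  · exact isDVR_normalization_stalk j₀ hd₀ hgen y (hrange' y hy)

end GrothLib.CurveCompl10
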